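import Groth.Agent.Lib.InertEt98.Main
import Groth.Agent.Lib.Henselian.StrictHenselization
import Mathlib.RingTheory.Invariant.Basic
import Mathlib.RingTheory.Adjoin.Tower
import Mathlib.RingTheory.Spectrum.Prime.Topology

/-!
# The invariant subalgebras of an inertia preserving étale equivariant map
-/

set_option autoImplicit false
universe u

open IsLocalRing
open Groth.Agent.Lib.Henselian

namespace Groth.Agent.Lib.InertEt98.Fixed

variable (R : Type u) [CommRing R] (B : Type u) [CommRing B] [Algebra R B]
  (G : Type u) [Group G] [MulSemiringAction G B] [SMulCommClass G R B]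

theorem smulCommClass {A : Type u} [CommRing A] [Algebra B A] [MulSemiringAction G A]
    (hGeq : ∀ (g : G) (b : B), algebraMap B A (g • b) = g • algebraMap B A b) :
    SMulCommClass G (FixedPoints.subalgebra R B G) A := ⟨fun g b a => by
  change g • ((b : B) • a) = (b : B) • (g • a)
  rw [Algebra.smul_def, Algebra.smul_def, smul_mul', ← hGeq, b.2 g]⟩

instance isInvariant : Algebra.IsInvariant (FixedPoints.subalgebra R B G) B G := ⟨fun b hb => ⟨⟨b, hb⟩, rfl⟩⟩

variable [Finite G]

theorem isIntegral : Algebra.IsIntegral (FixedPoints.subalgebra R B G) B :=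
  have := smulCommClass R B G (A := B) (fun _ _ => rfl)
  Algebra.IsInvariant.isIntegral (FixedPoints.subalgebra R B G) B G

theorem moduleFinite [Algebra.FiniteType R B] : Module.Finite (FixedPoints.subalgebra R B G) B :=
  have := isIntegral R B G
  have := Algebra.FiniteType.of_restrictScalars_finiteType R (FixedPoints.subalgebra R B G) B
  Algebra.IsIntegral.finite

theorem finiteType [IsNoetherianRing R] [Algebra.FiniteType R B] : Algebra.FiniteType R (FixedPoints.subalgebra R B G) :=
  have := moduleFinite R B G
  ⟨fg_of_fg_of_fg R (FixedPoints.subalgebra R B G) B Algebra.FiniteType.out Module.Finite.fg_top Subtype.val_injective⟩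

theorem isNoetherianRing [IsNoetherianRing R] [Algebra.FiniteType R B] : IsNoetherianRing (FixedPoints.subalgebra R B G) :=
  have := finiteType R B G
  Algebra.FiniteType.isNoetherianRing R (FixedPoints.subalgebra R B G)

variable {R B G}
variable [IsNoetherianRing R] {A : Type u} [CommRing A] [Algebra R A]
  [Algebra.FiniteType R A] [Algebra.FiniteType R B]
  [MulSemiringAction G A] [SMulCommClass G R A] [Algebra B A] [IsScalarTower R B A]
  [Algebra (FixedPoints.subalgebra R B G) (FixedPoints.subalgebra R A G)]
  [IsScalarTower (FixedPoints.subalgebra R B G) (FixedPoints.subalgebra R A G) A]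

theorem finitePresentation : Algebra.FinitePresentation (FixedPoints.subalgebra R B G) (FixedPoints.subalgebra R A G) := by
  have := isNoetherianRing R B G
  have := finiteType R A G
  have : IsScalarTower R (FixedPoints.subalgebra R B G) (FixedPoints.subalgebra R A G) := IsScalarTower.of_algebraMap_eq fun r =>
    Subtype.ext (by
      show algebraMap R A r = algebraMap (FixedPoints.subalgebra R A G) A
        (algebraMap (FixedPoints.subalgebra R B G) (FixedPoints.subalgebra R A G) (algebraMap R (FixedPoints.subalgebra R B G) r))
      rw [← IsScalarTower.algebraMap_apply (FixedPoints.subalgebra R B G) (FixedPoints.subalgebra R A G) A,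
        IsScalarTower.algebraMap_apply R B A]
      rfl)
  have := Algebra.FiniteType.of_restrictScalars_finiteType R (FixedPoints.subalgebra R B G) (FixedPoints.subalgebra R A G)
  exact Algebra.FinitePresentation.of_finiteType.1 this

theorem isEtaleAt
    (hGeq : ∀ (g : G) (b : B), algebraMap B A (g • b) = g • algebraMap B A b)
    (x : Ideal A) [x.IsMaximal] [Algebra.IsEtaleAt B x]
    (hin : x.inertia G = (x.comap (algebraMap B A)).inertia G) :
    Algebra.IsEtaleAt (FixedPoints.subalgebra R B G) (x.comap (algebraMap (FixedPoints.subalgebra R A G) A)) := by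
  have := isNoetherianRing R B G
  have := moduleFinite R B G
  have := finitePresentation (R := R) (B := B) (G := G) (A := A)
  have : IsNoetherianRing B := Algebra.FiniteType.isNoetherianRing R B
  have := smulCommClass R B G (A := B) (fun _ _ => rfl)
  have := smulCommClass R B G (A := A) hGeq
  have hBA : Algebra.FiniteType B A := Algebra.FiniteType.of_restrictScalars_finiteType R B A
  have : Algebra.FinitePresentation B A := Algebra.FinitePresentation.of_finiteType.1 hBA
  have : Algebra.FiniteType (FixedPoints.subalgebra R B G) A := Algebra.FiniteType.trans (S := B) inferInstance hBA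
  let q : Ideal (FixedPoints.subalgebra R B G) := x.comap (algebraMap (FixedPoints.subalgebra R B G) A)
  have : q.IsPrime := Ideal.comap_isPrime _ _
  let L := Localization.AtPrime q
  let T := StrictHenselization.StrictHenselization L
  letI : Algebra (FixedPoints.subalgebra R B G) T := ((algebraMap L T).comp (algebraMap (FixedPoints.subalgebra R B G) L)).toAlgebra
  have : IsScalarTower (FixedPoints.subalgebra R B G) L T := IsScalarTower.of_algebraMap_eq fun _ => rfl
  have : Module.Flat L T := StrictHenselization.flat L T
  have : Module.Flat (FixedPoints.subalgebra R B G) T := Module.Flat.trans (FixedPoints.subalgebra R B G) L T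
  have : IsSepClosed (ResidueField T) :=
    (StrictHenselization.isStrictHenselization L).isSepClosure.sep_closed
  refine Main.isEtaleAt_of_strict (T := T) (G := G) hGeq Subtype.val_injective (fun g a => a.2 g)
    (fun a ha => ⟨⟨a, ha⟩, rfl⟩) Subtype.val_injective (fun b hb => ⟨⟨b, hb⟩, rfl⟩) x hin ?_
  show (maximalIdeal T).comap ((algebraMap L T).comp (algebraMap (FixedPoints.subalgebra R B G) L)) = q
  rw [← Ideal.comap_comap, IsLocalRing.maximalIdeal_comap (algebraMap L T)]
  exact IsLocalization.AtPrime.comap_maximalIdeal L q

theorem etale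
    (hGeq : ∀ (g : G) (b : B), algebraMap B A (g • b) = g • algebraMap B A b)
    (h : ∀ (x : Ideal A) (_ : x.IsMaximal),
      Algebra.IsEtaleAt B x ∧ x.inertia G = (x.comap (algebraMap B A)).inertia G) :
    Algebra.Etale (FixedPoints.subalgebra R B G) (FixedPoints.subalgebra R A G) := by
  have := finitePresentation (R := R) (B := B) (G := G) (A := A)
  have := isIntegral R A G
  have hmax : ∀ M : PrimeSpectrum (FixedPoints.subalgebra R A G), M.asIdeal.IsMaximal →
      M ∈ Algebra.etaleLocus (FixedPoints.subalgebra R B G) (FixedPoints.subalgebra R A G) := fun M hM => by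
    obtain ⟨x, hx, hxM⟩ := Ideal.exists_ideal_over_maximal_of_isIntegral
      (S := A) M.asIdeal (by
        rw [(RingHom.injective_iff_ker_eq_bot _).1 Subtype.val_injective]; exact bot_le)
    have := (h x hx).1
    show Algebra.IsEtaleAt (FixedPoints.subalgebra R B G) M.asIdeal
    have h1 := isEtaleAt (R := R) (B := B) hGeq x (h x hx).2
    simp_rw [hxM] at h1
    exact h1
  rw [← Algebra.etaleLocus_eq_univ_iff_etale, Set.eq_univ_iff_forall]
  intro P
  obtain ⟨M, hM, hPM⟩ := Ideal.exists_le_maximal P.asIdeal P.2.ne_top
  exact ((PrimeSpectrum.le_iff_specializes P ⟨M, hM.isPrime⟩).1 hPM).mem_open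
    Algebra.isOpen_etaleLocus (hmax ⟨M, hM.isPrime⟩ hM)

end Groth.Agent.Lib.InertEt98.Fixed
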