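import Groth.Agent.Lib.InertEt98.Split
import Groth.Agent.Lib.Unram.BaseChangeDescend
import Groth.Agent.Lib.Henselian.Finite
import Groth.Agent.Lib.Henselian.EtaleHom
import Groth.Agent.Lib.Henselian.Smooth
import Groth.Agent.Lib.Henselian.LocalRing
import Mathlib.RingTheory.Jacobson.Ring
import Mathlib.FieldTheory.PurelyInseparable.Basic
import Mathlib.RingTheory.Etale.Locus
import Mathlib.GroupTheory.GroupAction.Quotient

/-!
# Invariants of an inertia preserving etale equivariant map are etale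
-/

set_option autoImplicit false
universe u

open TensorProduct IsLocalRing
open Groth.Agent.Lib.Henselian

namespace Groth.Agent.Lib.InertEt98.Main

attribute [local instance] Algebra.TensorProduct.rightAlgebra

variable {B0 A0 B A T : Type u} [CommRing B0] [CommRing A0] [CommRing B] [CommRing A] [CommRing T]
  [Algebra B0 A0] [Algebra B0 B] [Algebra B0 A] [Algebra A0 A] [Algebra B A]
  [IsScalarTower B0 B A] [IsScalarTower B0 A0 A]
  {G : Type u} [Group G] [Finite G] [MulSemiringAction G A] [MulSemiringAction G B]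
  [SMulCommClass G B0 A] [SMulCommClass G B0 B]

theorem isEtaleAt_of_strict [IsLocalRing T] [HenselianLocalRing T] [IsSepClosed (ResidueField T)]
    [Algebra B0 T] [Module.Flat B0 T]
    [Module.Finite B0 B] [Algebra.FiniteType B0 A] [Algebra.FinitePresentation B A]
    [Algebra.FinitePresentation B0 A0]
    (hGeq : ∀ (g : G) (b : B), algebraMap B A (g • b) = g • algebraMap B A b)
    (hA0 : Function.Injective (algebraMap A0 A))
    (hAfix : ∀ (g : G) (a : A0), g • algebraMap A0 A a = algebraMap A0 A a)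
    (hAinv : ∀ a : A, (∀ g : G, g • a = a) → ∃ a₀, algebraMap A0 A a₀ = a)
    (hB0 : Function.Injective (algebraMap B0 B))
    (hBinv : ∀ b : B, (∀ g : G, g • b = b) → ∃ b₀, algebraMap B0 B b₀ = b)
    (x : Ideal A) [x.IsMaximal] [Algebra.IsEtaleAt B x]
    (hin : x.inertia G = (x.comap (algebraMap B A)).inertia G)
    (hT : (maximalIdeal T).comap (algebraMap B0 T) = x.comap (algebraMap B0 A)) :
    Algebra.IsEtaleAt B0 (x.comap (algebraMap A0 A)) := by
  classical
  have := Fintype.ofFinite G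
  let qB := x.comap (algebraMap B0 A)
  have : qB.IsPrime := Ideal.comap_isPrime _ _
  let k := ResidueField T
  let Ω := AlgebraicClosure k
  let K0 := qB.ResidueField
  letI := Ideal.Quotient.field x
  have hres : ∀ b, algebraMap B0 Ω b = algebraMap k Ω (residue T (algebraMap B0 T b)) := fun b => by
    rw [IsScalarTower.algebraMap_apply B0 k Ω, IsScalarTower.algebraMap_apply B0 T k]; rfl
  have hΩ0 : ∀ b, algebraMap B0 Ω b = 0 ↔ b ∈ qB := fun b => by
    show _ ↔ b ∈ x.comap (algebraMap B0 A)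
    rw [hres, map_eq_zero, residue_eq_zero_iff, ← hT, Ideal.mem_comap]
  have hAx0 : ∀ b, algebraMap B0 (A ⧸ x) b = 0 ↔ b ∈ qB := fun b => by
    rw [IsScalarTower.algebraMap_apply B0 A (A ⧸ x)]
    exact Ideal.Quotient.eq_zero_iff_mem
  letI : Algebra K0 Ω := (Ideal.ResidueField.lift qB (algebraMap B0 Ω) (fun b hb => (hΩ0 b).2 hb)
    fun b hb => isUnit_iff_ne_zero.2 fun h => hb ((hΩ0 b).1 h)).toAlgebra
  letI : Algebra K0 (A ⧸ x) := (Ideal.ResidueField.lift qB (algebraMap B0 (A ⧸ x))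
    (fun b hb => (hAx0 b).2 hb)
    fun b hb => isUnit_iff_ne_zero.2 fun h => hb ((hAx0 b).1 h)).toAlgebra
  have : IsScalarTower B0 K0 Ω := IsScalarTower.of_algebraMap_eq fun b =>
    (Ideal.ResidueField.lift_algebraMap _ _ _ _ b).symm
  have : IsScalarTower B0 K0 (A ⧸ x) := IsScalarTower.of_algebraMap_eq fun b =>
    (Ideal.ResidueField.lift_algebraMap _ _ _ _ b).symm
  have : Algebra.FiniteType K0 (A ⧸ x) := Algebra.FiniteType.of_restrictScalars_finiteType B0 K0 (A ⧸ x)
  have : Module.Finite K0 (A ⧸ x) := finite_of_finite_type_of_isJacobsonRing K0 (A ⧸ x)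
  let τ : A →ₐ[B0] Ω :=
    ((IsAlgClosed.lift : A ⧸ x →ₐ[K0] Ω).restrictScalars B0).comp (Ideal.Quotient.mkₐ B0 x)
  have hτ : ∀ a, τ a = 0 ↔ a ∈ x := fun a =>
    (map_eq_zero_iff _ (IsAlgClosed.lift : A ⧸ x →ₐ[K0] Ω).toRingHom.injective).trans
      Ideal.Quotient.eq_zero_iff_mem
  have hτI : ∀ g ∈ x.inertia G, ∀ a, τ (g • a) = τ a := fun g hg a => by
    rw [← sub_eq_zero, ← map_sub, hτ]; exact hg a
  -- base change
  let gA : G → (T ⊗[B0] A →ₐ[B0] T ⊗[B0] A) := fun g =>
    Algebra.TensorProduct.map (AlgHom.id B0 T) (MulSemiringAction.toAlgHom B0 A g)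
  let gB : G → (T ⊗[B0] B →ₐ[B0] T ⊗[B0] B) := fun g =>
    Algebra.TensorProduct.map (AlgHom.id B0 T) (MulSemiringAction.toAlgHom B0 B g)
  have gA_mul : ∀ g h z, gA g (gA h z) = gA (g * h) z := fun g h z => by
    induction z using TensorProduct.induction_on with
    | zero => simp
    | tmul t a => simp [gA, mul_smul]
    | add x y hx hy => simp only [map_add, hx, hy]
  have gB_mul : ∀ g h z, gB g (gB h z) = gB (g * h) z := fun g h z => by
    induction z using TensorProduct.induction_on with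
    | zero => simp
    | tmul t a => simp [gB, mul_smul]
    | add x y hx hy => simp only [map_add, hx, hy]
  have gA_one : ∀ z, gA 1 z = z := fun z => by
    induction z using TensorProduct.induction_on with
    | zero => simp
    | tmul t a => simp [gA]
    | add x y hx hy => simp only [map_add, hx, hy]
  have gB_one : ∀ z, gB 1 z = z := fun z => by
    induction z using TensorProduct.induction_on with
    | zero => simp
    | tmul t a => simp [gB]
    | add x y hx hy => simp only [map_add, hx, hy]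
  let θ : T ⊗[B0] B →ₐ[B0] T ⊗[B0] A :=
    Algebra.TensorProduct.map (AlgHom.id B0 T) (IsScalarTower.toAlgHom B0 B A)
  have hθg : ∀ g z, θ (gB g z) = gA g (θ z) := fun g z => by
    induction z using TensorProduct.induction_on with
    | zero => simp
    | tmul t b => simp [θ, gA, gB, hGeq]
    | add x y hx hy => simp only [map_add, hx, hy]
  let χ : T ⊗[B0] A →ₐ[B0] Ω := Algebra.TensorProduct.productMap (IsScalarTower.toAlgHom B0 T Ω) τ
  have hχ : ∀ t a, χ (t ⊗ₜ a) = algebraMap T Ω t * τ a := fun _ _ => rfl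
  have hχI : ∀ g ∈ x.inertia G, ∀ z, χ (gA g z) = χ z := fun g hg z => by
    induction z using TensorProduct.induction_on with
    | zero => simp
    | tmul t a => simp [gA, hχ, hτI g hg]
    | add x y hx hy => simp only [map_add, hx, hy]
  have hmax : ∀ g, (RingHom.ker ((χ.comp θ).comp (gB g))).IsMaximal := fun g => by
    have : (RingHom.ker ((χ.comp θ).comp (gB g))).IsPrime := RingHom.ker_isPrime _
    refine Ideal.isMaximal_of_isIntegral_of_isMaximal_comap (R := T) _ ?_
    convert IsLocalRing.maximalIdeal.isMaximal T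
    ext t
    rw [Ideal.mem_comap, RingHom.mem_ker, Algebra.TensorProduct.algebraMap_apply,
      Algebra.algebraMap_self_apply]
    simp only [AlgHom.comp_apply, gB, θ, Algebra.TensorProduct.map_tmul, AlgHom.id_apply, map_one,
      hχ, mul_one]
    rw [IsScalarTower.algebraMap_apply T k Ω, map_eq_zero, ResidueField.algebraMap_eq,
      residue_eq_zero_iff]
  let u : T ⊗[B0] B →+* Ω := (χ.comp θ).toRingHom
  have hker1 : ∀ z, z ∈ RingHom.ker ((χ.comp θ).comp (gB 1)) ↔ u z = 0 := fun z => by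
    rw [RingHom.mem_ker, AlgHom.comp_apply, gB_one]; rfl
  let n : MaximalSpectrum (T ⊗[B0] B) := ⟨_, hmax 1⟩
  obtain ⟨ε, hε, hεn, hε'⟩ := Finite.exists_idempotent_maximal
    (Pair.idempotents_bijOn (maximalIdeal T) (T ⊗[B0] B)).surjOn n
  let J : Ideal (T ⊗[B0] B) := Ideal.span {1 - ε}
  let B1 := (T ⊗[B0] B) ⧸ J
  have hε0 : (1 - ε) * ε = 0 := by rw [sub_mul, one_mul, hε.eq, sub_self]
  have huε : u ε = 1 := (IsIdempotentElem.iff_eq_zero_or_one.1 (hε.map u)).resolve_left
    fun h => hεn ((hker1 ε).2 h)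
  have huJ : ∀ z ∈ J, u z = 0 := fun z hz => by
    obtain ⟨c, rfl⟩ := Ideal.mem_span_singleton'.1 hz
    rw [map_mul, map_sub, map_one, huε, sub_self, mul_zero]
  have hJn : ∀ {z}, z ∈ J → z * ε = 0 := fun {z} hz => by
    obtain ⟨c, rfl⟩ := Ideal.mem_span_singleton'.1 hz
    rw [mul_assoc, hε0, mul_zero]
  let χ1 : B1 →+* Ω := Ideal.Quotient.lift J u huJ
  have : Nontrivial B1 := χ1.domain_nontrivial
  have hM : ∀ M : Ideal B1, M.IsMaximal → M = RingHom.ker χ1 := fun M hMm => by
    have := hMm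
    have hc : (M.comap (Ideal.Quotient.mk J)).IsMaximal :=
      Ideal.comap_isMaximal_of_surjective _ Ideal.Quotient.mk_surjective
    have h1 : 1 - ε ∈ M.comap (Ideal.Quotient.mk J) := by
      rw [Ideal.mem_comap, Ideal.Quotient.eq_zero_iff_mem.2 (Ideal.mem_span_singleton_self _)]
      exact M.zero_mem
    have heq : M.comap (Ideal.Quotient.mk J) = n.asIdeal := by
      by_contra hne
      have h2 := hε' ⟨_, hc⟩ fun h => hne (congrArg MaximalSpectrum.asIdeal h)
      exact hc.ne_top ((Ideal.eq_top_iff_one _).2 (by simpa using add_mem h1 h2))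
    ext z
    obtain ⟨z, rfl⟩ := Ideal.Quotient.mk_surjective z
    rw [RingHom.mem_ker, ← Ideal.mem_comap, heq]
    exact hker1 z
  have : IsLocalRing B1 := IsLocalRing.of_unique_max_ideal
    (let ⟨M, hMm⟩ := Ideal.exists_maximal B1
     ⟨M, hMm, fun M' hM' => (hM M' hM').trans (hM M hMm).symm⟩)
  have hmem1 : ∀ z, z ∈ maximalIdeal B1 ↔ χ1 z = 0 := fun z => by
    rw [hM _ (maximalIdeal.isMaximal B1), RingHom.mem_ker]
  have hidem1 : ∀ z : B1, IsIdempotentElem z → χ1 z = 1 → z = 1 := fun z hz h1 => by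
    refine (IsIdempotentElem.iff_eq_one_of_isUnit ?_).1 hz
    by_contra hu
    exact one_ne_zero (α := Ω) (h1.symm.trans ((hmem1 z).1 hu))
  have hidem0 : ∀ z : B1, IsIdempotentElem z → χ1 z = 0 → z = 0 := fun z hz h0 => by
    have := hidem1 (1 - z) hz.one_sub (by rw [map_sub, map_one, h0, sub_zero])
    rwa [sub_eq_self] at this
  have : HenselianLocalRing B1 := LocalRing.henselianLocalRing_of_isIntegral T B1
  have hχ1T : ∀ t, χ1 (algebraMap T B1 t) = algebraMap T Ω t := fun t => by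
    show χ (θ (t ⊗ₜ[B0] (1 : B))) = _
    simp [θ, hχ]
  have : IsLocalHom (algebraMap T B1) := ⟨fun t ht => by
    by_contra h
    refine (ht.map χ1).ne_zero ?_
    rw [hχ1T, IsScalarTower.algebraMap_apply T k Ω, ResidueField.algebraMap_eq,
      (residue_eq_zero_iff t).2 h, map_zero]⟩
  let k1 := ResidueField B1
  have : Module.Finite k k1 := Module.Finite.of_restrictScalars_finite T k k1
  have : IsSepClosed k1 := Algebra.IsAlgebraic.isSepClosed (F := k) (E := k1)
  let ι1 : k1 →+* Ω := Ideal.Quotient.lift (maximalIdeal B1) χ1 fun z hz => (hmem1 z).1 hz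
  have hι1 : ∀ z, ι1 (residue B1 z) = χ1 z := fun z => rfl
  letI : Algebra B B1 := ((Ideal.Quotient.mk J).comp
    (Algebra.TensorProduct.includeRight : B →ₐ[B0] T ⊗[B0] B).toRingHom).toAlgebra
  letI : Algebra k1 Ω := ι1.toAlgebra
  letI : Algebra B Ω := (τ.toRingHom.comp (algebraMap B A)).toAlgebra
  have hχ1B : ∀ b, χ1 (algebraMap B B1 b) = τ (algebraMap B A b) := fun b => by
    show χ (θ (1 ⊗ₜ[B0] b)) = _
    simp [θ, hχ]
  have : IsScalarTower B k1 Ω := IsScalarTower.of_algebraMap_eq fun b => by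
    show _ = ι1 (algebraMap B k1 b)
    rw [IsScalarTower.algebraMap_apply B B1 k1, ResidueField.algebraMap_eq, hι1, hχ1B]
    rfl
  -- the section
  obtain ⟨f, hfx, hfet⟩ := Algebra.exists_etale_of_isEtaleAt (R := B) x
  have hfu : IsUnit (τ.toRingHom f) := isUnit_iff_ne_zero.2 fun h => hfx ((hτ f).1 h)
  let τf' : Localization.Away f →+* Ω := IsLocalization.Away.lift f (g := τ.toRingHom) hfu
  have hτf' : ∀ a, τf' (algebraMap A _ a) = τ a := fun a => IsLocalization.Away.lift_eq _ _ a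
  let τf : Localization.Away f →ₐ[B] Ω := AlgHom.mk τf' fun b => by
    show τf' _ = _
    rw [IsScalarTower.algebraMap_apply B A (Localization.Away f), hτf']; rfl
  let ρ : k1 ⊗[B] Localization.Away f →ₐ[k1] Ω :=
    Algebra.TensorProduct.lift (Algebra.ofId k1 Ω) τf fun _ _ => Commute.all _ _
  have hmemk : ∀ s, τf s ∈ (IsScalarTower.toAlgHom B k1 Ω).range := fun s => by
    obtain ⟨c, hc⟩ := EtaleHom.mem_range_of_isSepClosed ρ (1 ⊗ₜ s)
    exact ⟨c, hc.trans (by simp [ρ])⟩
  let σbar : Localization.Away f →ₐ[B] k1 :=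
    (AlgEquiv.ofInjective (IsScalarTower.toAlgHom B k1 Ω) ι1.injective).symm.toAlgHom.comp
      (τf.codRestrict _ hmemk)
  have hσbar : ∀ s, ι1 (σbar s) = τf s := fun s =>
    congrArg Subtype.val ((AlgEquiv.ofInjective (IsScalarTower.toAlgHom B k1 Ω)
      ι1.injective).apply_symm_apply ⟨τf s, hmemk s⟩)
  obtain ⟨σ₀, hσ₀⟩ := Smooth.exists_algHom_lift_smooth (maximalIdeal B1)
    (R := B) (S := Localization.Away f) σbar
  have hχσ₀ : ∀ s, χ1 (σ₀ s) = τf s := fun s => by
    rw [← hσbar s, ← hι1]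
    exact congrArg ι1 (AlgHom.congr_fun hσ₀ s)
  let f1 : T →ₐ[B0] B1 := (Ideal.Quotient.mkₐ B0 J).comp
    (Algebra.TensorProduct.includeLeft : T →ₐ[B0] T ⊗[B0] B)
  let f2 : A →ₐ[B0] B1 := AlgHom.mk (σ₀.toRingHom.comp (algebraMap A _)) fun b => by
    show σ₀ (algebraMap A (Localization.Away f) (algebraMap B0 A b)) = _
    rw [IsScalarTower.algebraMap_apply B0 B A, ← IsScalarTower.algebraMap_apply B A (Localization.Away f),
      AlgHom.commutes]
    show Ideal.Quotient.mk J ((Algebra.TensorProduct.includeRight : B →ₐ[B0] T ⊗[B0] B) _) = _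
    rw [AlgHom.commutes]; rfl
  let σ : T ⊗[B0] A →ₐ[B0] B1 := Algebra.TensorProduct.productMap f1 f2
  have hχσ : ∀ z, χ1 (σ z) = χ z := fun z => by
    induction z using TensorProduct.induction_on with
    | zero => simp
    | tmul t a =>
      rw [Algebra.TensorProduct.productMap_apply_tmul, map_mul, hχ]
      exact congrArg₂ (· * ·) (hχ1T t) ((hχσ₀ _).trans (hτf' a))
    | add x y hx hy => simp only [map_add, hx, hy]
  have hσθ : ∀ z, σ (θ z) = Ideal.Quotient.mk J z := fun z => by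
    induction z using TensorProduct.induction_on with
    | zero => simp
    | tmul t b =>
      show σ (t ⊗ₜ algebraMap B A b) = _
      rw [Algebra.TensorProduct.productMap_apply_tmul]
      show Ideal.Quotient.mk J (t ⊗ₜ 1) * σ₀ (algebraMap A (Localization.Away f) (algebraMap B A b)) = _
      rw [← IsScalarTower.algebraMap_apply B A (Localization.Away f), AlgHom.commutes]
      show Ideal.Quotient.mk J (t ⊗ₜ 1) * Ideal.Quotient.mk J (1 ⊗ₜ b) = _
      rw [← map_mul, Algebra.TensorProduct.tmul_mul_tmul, mul_one, one_mul]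
    | add x y hx hy => simp only [map_add, hx, hy]
  obtain ⟨e₁, he₁i, he₁σ, he₁⟩ := Split.exists_idempotent (B := B) f θ.toRingHom
    (Algebra.TensorProduct.includeRight : A →ₐ[B0] T ⊗[B0] A).toRingHom
    (Algebra.TensorProduct.includeRight : B →ₐ[B0] T ⊗[B0] B).toRingHom
    (fun b => by simp [θ]) (by
      refine eq_top_iff.2 fun z _ => ?_
      induction z using TensorProduct.induction_on with
      | zero => exact zero_mem _
      | tmul t a =>
        have : t ⊗ₜ[B0] a = θ (t ⊗ₜ 1) * (1 ⊗ₜ a) := by simp [θ]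
        rw [this]
        exact mul_mem (Subring.subset_closure (Or.inl ⟨_, rfl⟩))
          (Subring.subset_closure (Or.inr ⟨a, rfl⟩))
      | add x y hx hy => exact add_mem (hx trivial) (hy trivial))
    ε hε σ.toRingHom hσθ (by
      show IsUnit (σ (1 ⊗ₜ f))
      rw [Algebra.TensorProduct.productMap_apply_tmul, map_one, one_mul]
      exact (IsLocalization.Away.algebraMap_isUnit f).map σ₀)
  have hkill : ∀ b, θ b * e₁ = 0 → b * ε = 0 := fun b hb => hJn (Ideal.Quotient.eq_zero_iff_mem.1 (by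
    have := congrArg σ hb
    rwa [map_mul, show σ e₁ = 1 from he₁σ, mul_one, hσθ, map_zero] at this))
  have hχe₁ : χ e₁ = 1 := by rw [← hχσ, show σ e₁ = 1 from he₁σ, map_one]
  have hmk1 : Ideal.Quotient.mk J ε = 1 := hidem1 _ (hε.map _) huε
  have hθε : θ ε * e₁ = e₁ := by
    have := he₁ (θ ε) 1 ((hσθ ε).trans (hmk1.trans (map_one _).symm))
    rwa [map_one, one_mul] at this
  -- behaviour of the idempotents under the group
  have horth : ∀ g, g ∉ x.inertia G → gB g ε * ε = 0 := by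
    intro g hg
    have hne : (⟨_, hmax g⟩ : MaximalSpectrum (T ⊗[B0] B)) ≠ n := by
      intro h
      refine hg (hin ▸ ?_)
      have hk : RingHom.ker ((χ.comp θ).comp (gB g)) = n.asIdeal := congrArg MaximalSpectrum.asIdeal h
      have hεg : u (gB g ε) = 1 := (IsIdempotentElem.iff_eq_zero_or_one.1 ((hε.map (gB g)).map u)).resolve_left
        fun h0 => hεn (hk ▸ h0)
      let v : B1 →+* Ω := Ideal.Quotient.lift J (u.comp (gB g).toRingHom) fun z hz => by
        obtain ⟨c, rfl⟩ := Ideal.mem_span_singleton'.1 hz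
        rw [map_mul, map_sub, map_one]
        show _ * (1 - u (gB g ε)) = 0
        rw [hεg, sub_self, mul_zero]
      have hv : ∀ z ∈ maximalIdeal B1, v z = 0 := fun z hz => by
        obtain ⟨z, rfl⟩ := Ideal.Quotient.mk_surjective z
        have hz' : z ∈ n.asIdeal := (hker1 z).2 ((hmem1 _).1 hz)
        rw [← hk] at hz'
        exact hz'
      have hvT : ∀ t, v (algebraMap T B1 t) = algebraMap T Ω t := fun t => by
        show χ (θ (gB g (t ⊗ₜ[B0] (1 : B)))) = _
        simp [θ, gB, hχ]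
      let a₁ : k1 →ₐ[k] Ω := AlgHom.mk ι1 fun c => by
        obtain ⟨t, rfl⟩ := residue_surjective c
        show χ1 (algebraMap T B1 t) = _
        rw [hχ1T]; rfl
      let a₂ : k1 →ₐ[k] Ω := AlgHom.mk (Ideal.Quotient.lift (maximalIdeal B1) v hv) fun c => by
        obtain ⟨t, rfl⟩ := residue_surjective c
        show v (algebraMap T B1 t) = _
        rw [hvT]; rfl
      intro b
      have hab : v (algebraMap B B1 b) = χ1 (algebraMap B B1 b) :=
        congrArg (fun a : k1 →ₐ[k] Ω => a (residue B1 (algebraMap B B1 b))) (Subsingleton.elim a₂ a₁)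
      have hvb : v (algebraMap B B1 b) = τ (algebraMap B A (g • b)) := by
        show χ (θ (gB g (1 ⊗ₜ[B0] b))) = _
        simp [θ, gB, hχ]
      rw [hvb, hχ1B, ← sub_eq_zero, ← map_sub, ← map_sub, hτ] at hab
      exact hab
    have h0 : u (gB g ε) = 0 := hε' _ hne
    exact hJn (Ideal.Quotient.eq_zero_iff_mem.1 (hidem0 _ ((hε.map (gB g)).map _) h0))
  have hεI : ∀ g ∈ x.inertia G, gB g ε = ε := by
    have h : ∀ g ∈ x.inertia G, gB g ε * ε = ε := fun g hg => by
      have h1 : Ideal.Quotient.mk J (gB g ε) = 1 := hidem1 _ ((hε.map (gB g)).map _) (by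
        show χ (θ (gB g ε)) = 1
        rw [hθg, hχI g hg]; exact huε)
      have := hJn ((Ideal.Quotient.eq).1 (h1.trans (map_one _).symm))
      rwa [sub_mul, one_mul, sub_eq_zero] at this
    intro g hg
    have h2 := congrArg (gB g) (h g⁻¹ (inv_mem hg))
    rw [map_mul, gB_mul, mul_inv_cancel, gB_one, mul_comm] at h2
    exact h2.symm.trans (h g hg)
  have he₁I : ∀ g ∈ x.inertia G, gA g e₁ = e₁ := by
    have h : ∀ g ∈ x.inertia G, gA g e₁ * e₁ = e₁ := fun g hg => by
      have h1 : σ (gA g e₁) = 1 := hidem1 _ ((he₁i.map (gA g)).map σ)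
        ((hχσ _).trans ((hχI g hg _).trans hχe₁))
      have := he₁ (gA g e₁) 1 (h1.trans (map_one _).symm)
      rwa [map_one, one_mul] at this
    intro g hg
    have h2 := congrArg (gA g) (h g⁻¹ (inv_mem hg))
    rw [map_mul, gA_mul, mul_inv_cancel, gA_one, mul_comm] at h2
    exact h2.symm.trans (h g hg)
  let I := x.inertia G
  have hwdA : ∀ (w : T ⊗[B0] A), (∀ g ∈ I, gA g w = w) → ∀ g,
      gA (QuotientGroup.mk g : G ⧸ I).out w = gA g w := fun w hw g => by
    obtain ⟨h, hh⟩ := QuotientGroup.mk_out_eq_mul I g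
    rw [hh, ← gA_mul, hw _ h.2]
  have hwdB : ∀ (w : T ⊗[B0] B), (∀ g ∈ I, gB g w = w) → ∀ g,
      gB (QuotientGroup.mk g : G ⧸ I).out w = gB g w := fun w hw g => by
    obtain ⟨h, hh⟩ := QuotientGroup.mk_out_eq_mul I g
    rw [hh, ← gB_mul, hw _ h.2]
  have hsumB : ∀ (w : T ⊗[B0] B), (∀ g ∈ I, gB g w = w) → ∀ g,
      gB g (∑ c : G ⧸ I, gB c.out w) = ∑ c : G ⧸ I, gB c.out w := fun w hw g => by
    rw [map_sum]
    refine Fintype.sum_equiv (MulAction.toPerm g) _ _ fun c => ?_
    rw [gB_mul, ← hwdB w hw (g * c.out)]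
    have hgc : (QuotientGroup.mk (g * c.out) : G ⧸ I) = g • c := by
      conv_rhs => rw [← Quotient.out_eq' c]
      rfl
    rw [hgc]; rfl
  have hpick : ∀ (w : T ⊗[B0] B), w * ε = w → (∀ g ∈ I, gB g w = w) →
      (∑ c : G ⧸ I, gB c.out w) * ε = w := fun w hwε hw => by
    rw [Finset.sum_mul, Finset.sum_eq_single (QuotientGroup.mk (1 : G) : G ⧸ I)]
    · rw [hwdB w hw 1, gB_one, hwε]
    · intro c _ hc
      have hcI : c.out ∉ I := fun h => hc (by
        rw [← Quotient.out_eq' c]
        exact QuotientGroup.eq.2 (by simpa using inv_mem h))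
      rw [← hwε, map_mul, mul_assoc, horth _ hcI, mul_zero]
    · simp
  let e : T ⊗[B0] A := ∑ c : G ⧸ I, gA c.out e₁
  have he_fix : ∀ g, gA g e = e := fun g => by
    rw [map_sum]
    refine Fintype.sum_equiv (MulAction.toPerm g) _ _ fun c => ?_
    rw [gA_mul, ← hwdA e₁ he₁I (g * c.out)]
    have hgc : (QuotientGroup.mk (g * c.out) : G ⧸ I) = g • c := by
      conv_rhs => rw [← Quotient.out_eq' c]
      rfl
    rw [hgc]; rfl
  have horthA : ∀ g, g ∉ I → gA g e₁ * e₁ = 0 := fun g hg => by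
    rw [← hθε, map_mul, ← hθg, mul_mul_mul_comm, ← map_mul, horth g hg, map_zero, zero_mul]
  have hee₁ : e * e₁ = e₁ := by
    rw [Finset.sum_mul, Finset.sum_eq_single (QuotientGroup.mk (1 : G) : G ⧸ I)]
    · rw [hwdA e₁ he₁I 1, gA_one, he₁i.eq]
    · intro c _ hc
      exact horthA _ fun h => hc (by
        rw [← Quotient.out_eq' c]
        exact QuotientGroup.eq.2 (by simpa using inv_mem h))
    · simp
  have hee : e * e = e := by
    conv_lhs => arg 2; unfold e
    rw [Finset.mul_sum]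
    refine Finset.sum_congr rfl fun c _ => ?_
    rw [← he_fix c.out, ← map_mul, hee₁]
  have hchi : χ e = 1 := by
    have := congrArg χ hee₁
    rwa [map_mul, hχe₁, mul_one] at this
  have hinvB : ∀ w : T ⊗[B0] B, (∀ g, gB g w = w) → ∃ t : T, t ⊗ₜ[B0] (1 : B) = w := fun w hw => by
    obtain ⟨w₀, rfl⟩ := Split.exists_map_of_fixed (fun g : G => MulSemiringAction.toAlgHom B0 B g)
      (Algebra.ofId B0 B) (fun g b => smul_algebraMap g b)
      (fun c hc => hBinv c hc) w hw
    refine ⟨Algebra.TensorProduct.rid B0 B0 T w₀, ?_⟩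
    clear hw
    induction w₀ using TensorProduct.induction_on with
    | zero => simp
    | tmul t b => simp [TensorProduct.smul_tmul, Algebra.algebraMap_eq_smul_one]
    | add x y hx hy => rw [map_add, map_add, add_tmul, hx, hy]
  have hsurj : ∀ z : T ⊗[B0] A, (∀ g, gA g z = z) → ∃ t : T, z * e = (t ⊗ₜ 1) * e := fun z hz => by
    obtain ⟨b, hb⟩ := Ideal.Quotient.mk_surjective (σ z)
    have h1 : z * e₁ = θ (b * ε) * e₁ := by
      rw [he₁ z b hb.symm, map_mul, mul_assoc, hθε]; rfl
    have hfixw : ∀ g ∈ I, gB g (b * ε) = b * ε := fun g hg => by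
      have h2 := congrArg (gA g) h1
      rw [map_mul, map_mul, he₁I g hg, hz g, ← hθg, h1, eq_comm, ← sub_eq_zero, ← sub_mul,
        ← map_sub] at h2
      have h3 := hkill _ h2
      rw [sub_mul, mul_assoc b, hε.eq, map_mul, hεI g hg, mul_assoc, hε.eq, sub_eq_zero] at h3
      rw [map_mul, hεI g hg]; exact h3
    have hwε : b * ε * ε = b * ε := by rw [mul_assoc, hε.eq]
    obtain ⟨t, ht⟩ := hinvB _ (hsumB _ hfixw)
    refine ⟨t, ?_⟩
    have hteq : (t ⊗ₜ[B0] (1 : A)) = θ (∑ c : G ⧸ I, gB c.out (b * ε)) := by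
      rw [← ht]; simp [θ]
    have h4 : z * e₁ = (t ⊗ₜ[B0] (1 : A)) * e₁ := by
      rw [h1, hteq]
      conv_lhs => rw [← hpick _ hwε hfixw]
      rw [map_mul, mul_assoc, hθε]
    simp only [e, Finset.mul_sum]
    refine Finset.sum_congr rfl fun c _ => ?_
    have h5 := congrArg (gA c.out) h4
    rwa [map_mul, map_mul, hz, show gA c.out (t ⊗ₜ[B0] (1 : A)) = t ⊗ₜ 1 by simp [gA]] at h5
  have hinj : ∀ t : T, (t ⊗ₜ[B0] (1 : A)) * e = 0 → t = 0 := fun t ht => by
    have h1 : θ (t ⊗ₜ 1) * e₁ = 0 := by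
      rw [← hee₁, ← mul_assoc, show θ (t ⊗ₜ[B0] (1 : B)) = t ⊗ₜ 1 by simp [θ], ht, zero_mul]
    have h2 := hkill _ h1
    obtain ⟨s, hs⟩ := hinvB _ (hsumB ε hεI)
    have hflat : Function.Injective fun t : T => t ⊗ₜ[B0] (1 : B) := fun a b hab => by
      have hi := Split.map_injective (T := T) (Algebra.ofId B0 B) hB0
        (a₁ := a ⊗ₜ 1) (a₂ := b ⊗ₜ 1) (by simpa using hab)
      simpa using congrArg (Algebra.TensorProduct.rid B0 B0 T) hi
    have hts : t * s = 0 := hflat (by
      show (t * s) ⊗ₜ[B0] (1 : B) = (0 : T) ⊗ₜ 1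
      rw [TensorProduct.zero_tmul,
        show (t * s) ⊗ₜ[B0] (1 : B) = (t ⊗ₜ 1) * (s ⊗ₜ 1) by simp, hs, Finset.mul_sum]
      refine Finset.sum_eq_zero fun c _ => ?_
      rw [show t ⊗ₜ[B0] (1 : B) = gB c.out (t ⊗ₜ 1) by simp [gB], ← map_mul, h2, map_zero])
    have hsu : IsUnit s := by
      by_contra hsu
      have h3 : u ((s ⊗ₜ 1) * ε) = 1 := by rw [hs, hpick ε hε.eq hεI, huε]
      rw [map_mul, huε, mul_one] at h3
      have h4 : u (s ⊗ₜ 1) = algebraMap T Ω s := by
        show χ (θ (s ⊗ₜ[B0] (1 : B))) = _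
        simp [θ, hχ]
      rw [h4, IsScalarTower.algebraMap_apply T k Ω, ResidueField.algebraMap_eq,
        (residue_eq_zero_iff s).2 hsu, map_zero] at h3
      exact zero_ne_one h3
    exact hsu.mul_left_eq_zero.1 hts
  -- descend
  let j : T ⊗[B0] A0 →ₐ[B0] T ⊗[B0] A :=
    Algebra.TensorProduct.map (AlgHom.id B0 T) (IsScalarTower.toAlgHom B0 A0 A)
  have hj : Function.Injective j := Split.map_injective _ hA0
  have hjg : ∀ g w, gA g (j w) = j w := fun g w => by
    induction w using TensorProduct.induction_on with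
    | zero => simp
    | tmul t a => simp [gA, j, hAfix]
    | add x y hx hy => simp only [map_add, hx, hy]
  obtain ⟨e₀, he₀⟩ := Split.exists_map_of_fixed (fun g : G => MulSemiringAction.toAlgHom B0 A g)
    (IsScalarTower.toAlgHom B0 A0 A) (fun g a => hAfix g a) (fun c hc => hAinv c hc) e he_fix
  replace he₀ : j e₀ = e := he₀
  let L := Localization.Away e₀
  have hbij : Function.Bijective (algebraMap T L) := by
    have he₀i : IsIdempotentElem e₀ := hj (by rw [map_mul, he₀, hee])
    have h1 : algebraMap (T ⊗[B0] A0) L e₀ = 1 :=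
      (IsIdempotentElem.iff_eq_one_of_isUnit (IsLocalization.Away.algebraMap_isUnit e₀)).1
        (he₀i.map _)
    have hTL : ∀ t, algebraMap T L t = algebraMap (T ⊗[B0] A0) L (t ⊗ₜ 1) := fun t =>
      IsScalarTower.algebraMap_apply T (T ⊗[B0] A0) L t
    constructor
    · rw [injective_iff_map_eq_zero]
      intro t ht
      rw [hTL] at ht
      obtain ⟨⟨_, n, rfl⟩, hn⟩ := (IsLocalization.map_eq_zero_iff (Submonoid.powers e₀) L _).1 ht
      refine hinj t ?_
      have h2 := congrArg (fun w => j w * e) hn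
      simp only [map_mul, map_pow, he₀, map_zero, zero_mul] at h2
      rw [mul_right_comm, ← pow_succ, show e ^ (n + 1) = e from (show IsIdempotentElem e from hee).pow_succ_eq n] at h2
      rwa [mul_comm, show j (t ⊗ₜ[B0] (1 : A0)) = t ⊗ₜ[B0] (1 : A) by simp [j]] at h2
    · intro y
      obtain ⟨⟨w, _, n, rfl⟩, hw⟩ := IsLocalization.surj (Submonoid.powers e₀) y
      simp only [map_pow, h1, one_pow, mul_one] at hw
      obtain ⟨t, ht⟩ := hsurj (j w) fun g => hjg g w
      refine ⟨t, ?_⟩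
      have h2 : w * e₀ = (t ⊗ₜ 1) * e₀ := hj (by
        rw [map_mul, map_mul, he₀, show j (t ⊗ₜ[B0] (1 : A0)) = t ⊗ₜ[B0] (1 : A) by simp [j], ht])
      have h3 := congrArg (algebraMap (T ⊗[B0] A0) L) h2
      rw [map_mul, map_mul, h1, mul_one, mul_one] at h3
      rw [hTL, ← h3, hw]
  have : Algebra.Etale T L := Algebra.Etale.of_equiv (AlgEquiv.ofBijective (Algebra.ofId T L) hbij)
  let P : Ideal (T ⊗[B0] A0) := RingHom.ker (χ.comp j)
  have : P.IsPrime := RingHom.ker_isPrime _
  let q : Ideal A0 := x.comap (algebraMap A0 A)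
  have : q.IsPrime := Ideal.comap_isPrime _ _
  have : P.LiesOver q := ⟨by
    ext a
    rw [Ideal.under, Ideal.mem_comap, Ideal.mem_comap, RingHom.mem_ker, ← hτ]
    show τ _ = 0 ↔ χ (j (1 ⊗ₜ[B0] a)) = 0
    simp [j, hχ]⟩
  have hP : Algebra.IsEtaleAt T P := by
    have hsub : (PrimeSpectrum.basicOpen e₀ : Set (PrimeSpectrum (T ⊗[B0] A0))) ⊆
        Algebra.etaleLocus T (T ⊗[B0] A0) := Algebra.basicOpen_subset_etaleLocus_iff.2 (inferInstanceAs (Algebra.FormallyEtale T L))
    refine hsub (show (⟨P, inferInstance⟩ : PrimeSpectrum _) ∈ PrimeSpectrum.basicOpen e₀ from ?_)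
    show e₀ ∉ P
    rw [RingHom.mem_ker, AlgHom.comp_apply, he₀, hchi]
    exact one_ne_zero
  exact Unram.BaseChangeDescend.isEtaleAt P q hP

end Groth.Agent.Lib.InertEt98.Main
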