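import Mathlib.RingTheory.Unramified.Finite
import Mathlib.RingTheory.Etale.Basic
import Mathlib.RingTheory.Localization.Away.Basic
import Mathlib.RingTheory.Flat.Basic
import Mathlib.LinearAlgebra.TensorProduct.Pi
import Mathlib.Algebra.Exact.Basic

/-!
# Invariants under flat base change; idempotents from sections of unramified algebras
-/

set_option autoImplicit false
universe u

open TensorProduct

namespace Groth.Agent.Lib.InertEt98.Split

/-- Invariants commute with flat base change. -/
theorem exists_map_of_fixed {R C₀ C T : Type u} [CommRing R] [CommRing C₀] [CommRing C] [CommRing T]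
    [Algebra R C₀] [Algebra R C] [Algebra R T] [Module.Flat R T] {G : Type u} [Finite G]
    (act : G → (C →ₐ[R] C)) (i : C₀ →ₐ[R] C) (hfix : ∀ g a, act g (i a) = i a)
    (hinv : ∀ c, (∀ g, act g c = c) → ∃ a, i a = c) (z : T ⊗[R] C)
    (hz : ∀ g, Algebra.TensorProduct.map (AlgHom.id R T) (act g) z = z) :
    ∃ w : T ⊗[R] C₀, Algebra.TensorProduct.map (AlgHom.id R T) i w = z := by
  classical
  have := Fintype.ofFinite G
  let δ : C →ₗ[R] (G → C) := LinearMap.pi fun g => (act g).toLinearMap - LinearMap.id
  have hex : Function.Exact i.toLinearMap δ := fun c => by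
    constructor
    · intro h
      exact hinv c fun g => sub_eq_zero.1 (congrFun h g)
    · rintro ⟨a, rfl⟩
      exact funext fun g => sub_eq_zero.2 (hfix g a)
  have hT := Module.Flat.lTensor_exact T hex
  have key : ∀ (w : T ⊗[R] C) (g : G), TensorProduct.piRight R R T (fun _ : G => C) (δ.lTensor T w) g =
      Algebra.TensorProduct.map (AlgHom.id R T) (act g) w - w := fun w g => by
    induction w using TensorProduct.induction_on with
    | zero => simp
    | tmul t c => simp [δ, tmul_sub]
    | add x y hx hy => simp only [map_add, Pi.add_apply, hx, hy]; abel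
  obtain ⟨w, hw⟩ := (hT z).1 ((TensorProduct.piRight R R T (fun _ : G => C)).injective
    (funext fun g => by rw [key, hz g, sub_self, map_zero]; rfl))
  refine ⟨w, ?_⟩
  rw [← hw]
  clear hw
  induction w using TensorProduct.induction_on with
  | zero => simp
  | tmul t c => rfl
  | add x y hx hy => rw [map_add, map_add, hx, hy]

theorem map_injective {R C₀ C T : Type u} [CommRing R] [CommRing C₀] [CommRing C] [CommRing T]
    [Algebra R C₀] [Algebra R C] [Algebra R T] [Module.Flat R T] (i : C₀ →ₐ[R] C)
    (hi : Function.Injective i) :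
    Function.Injective (Algebra.TensorProduct.map (AlgHom.id R T) i) := by
  intro x y h
  refine Module.Flat.lTensor_preserves_injective_linearMap (M := T) i.toLinearMap hi ?_
  have key : ∀ z, i.toLinearMap.lTensor T z = Algebra.TensorProduct.map (AlgHom.id R T) i z := fun z => by
    induction z using TensorProduct.induction_on with
    | zero => simp
    | tmul t c => rfl
    | add x y hx hy => rw [map_add, map_add, hx, hy]
  rw [key, key, h]

/-- A section of an algebra, unramified near the section, cuts out an idempotent. -/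
theorem exists_idempotent {B A BT AT : Type u} [CommRing B] [CommRing A] [CommRing BT] [CommRing AT]
    [Algebra B A] [Algebra.FiniteType B A] (f : A)
    [Algebra.FormallyUnramified B (Localization.Away f)]
    [Algebra.EssFiniteType B (Localization.Away f)]
    (θ : BT →+* AT) (α : A →+* AT) (β : B →+* BT)
    (hαβ : ∀ b, α (algebraMap B A b) = θ (β b))
    (hgen : Subring.closure (Set.range θ ∪ Set.range α) = ⊤)
    (ε : BT) (hε : IsIdempotentElem ε) (σ : AT →+* BT ⧸ Ideal.span {1 - ε})
    (hσθ : ∀ b, σ (θ b) = Ideal.Quotient.mk _ b) (hf : IsUnit (σ (α f))) :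
    ∃ e : AT, IsIdempotentElem e ∧ σ e = 1 ∧
      ∀ (z : AT) (b : BT), σ z = Ideal.Quotient.mk _ b → z * e = θ b * e := by
  classical
  let J : Ideal BT := Ideal.span {1 - ε}
  let J' : Ideal AT := Ideal.span {1 - θ ε}
  have hJJ : J ≤ J'.comap θ := (Ideal.span_singleton_le_iff_mem _).2 (by
    rw [Ideal.mem_comap, map_sub, map_one]; exact Ideal.mem_span_singleton_self _)
  let q := Ideal.Quotient.mk J'
  let j : BT ⧸ J →+* AT ⧸ J' := Ideal.quotientMap J' θ hJJ
  have hσ0 : ∀ z ∈ J', σ z = 0 := fun z hz => by
    obtain ⟨c, rfl⟩ := Ideal.mem_span_singleton'.1 hz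
    rw [map_mul, map_sub, map_one, hσθ, ← map_one (Ideal.Quotient.mk J), ← map_sub,
      Ideal.Quotient.eq_zero_iff_mem.2 (Ideal.mem_span_singleton_self _), mul_zero]
  let σ'' : AT ⧸ J' →+* BT ⧸ J := Ideal.Quotient.lift J' σ hσ0
  have hσj : ∀ x, σ'' (j x) = x := fun x => by
    obtain ⟨b, rfl⟩ := Ideal.Quotient.mk_surjective x
    exact hσθ b
  let L := Localization.Away (q (α f))
  let lam := algebraMap (AT ⧸ J') L
  letI : Algebra B L := (lam.comp (q.comp (α.comp (algebraMap B A)))).toAlgebra
  let ψ : L →+* BT ⧸ J := IsLocalization.Away.lift (q (α f)) (g := σ'') hf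
  have hψ : ∀ x, ψ (lam x) = σ'' x := fun x => IsLocalization.Away.lift_eq _ _ x
  have hfu : IsUnit ((lam.comp (q.comp α)) f) := IsLocalization.Away.algebraMap_isUnit (q (α f))
  let uA' : Localization.Away f →+* L := IsLocalization.Away.lift f (g := lam.comp (q.comp α)) hfu
  have huA : ∀ a, uA' (algebraMap A _ a) = lam (q (α a)) := fun a => IsLocalization.Away.lift_eq _ _ a
  let σA : Localization.Away f →+* BT ⧸ J := IsLocalization.Away.lift f (g := σ.comp α) hf
  have hσA : ∀ a, σA (algebraMap A _ a) = σ (α a) := fun a => IsLocalization.Away.lift_eq _ _ a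
  let uA : Localization.Away f →ₐ[B] L := AlgHom.mk uA' fun b => by
    show uA' _ = _
    rw [IsScalarTower.algebraMap_apply B A (Localization.Away f), huA]; rfl
  let vA : Localization.Away f →ₐ[B] L := AlgHom.mk (lam.comp (j.comp σA)) fun b => by
    show lam (j (σA _)) = _
    rw [IsScalarTower.algebraMap_apply B A (Localization.Away f), hσA, hαβ, hσθ]
    show lam (q (θ (β b))) = lam (q (α (algebraMap B A b)))
    rw [hαβ]
  let μ := Algebra.TensorProduct.productMap uA vA
  let εL : L := μ (Algebra.FormallyUnramified.elem B (Localization.Away f))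
  have hεL : ∀ s, vA s * εL = uA s * εL := fun s => by
    have h := congrArg μ (Algebra.FormallyUnramified.one_tmul_mul_elem (R := B) s)
    simpa [μ, εL] using h
  have hψμ : ∀ w, ψ (μ w) = σA (Algebra.TensorProduct.lmul' B w) := by
    have hψu : ∀ s, ψ (uA s) = σA s := fun s => by
      refine RingHom.congr_fun (f := ψ.comp uA') ?_ s
      refine IsLocalization.ringHom_ext (Submonoid.powers f) (RingHom.ext fun a => ?_)
      show ψ (uA' (algebraMap A _ a)) = σA (algebraMap A _ a)
      rw [huA, hψ, hσA]; rfl
    intro w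
    induction w using TensorProduct.induction_on with
    | zero => simp
    | add x y hx hy => simp only [map_add, hx, hy]
    | tmul s t =>
      rw [Algebra.TensorProduct.productMap_apply_tmul, map_mul, hψu,
        Algebra.TensorProduct.lmul'_apply_tmul, map_mul]
      exact congrArg (σA s * ·) ((hψ _).trans (hσj _))
  have hψεL : ψ εL = 1 := by rw [hψμ, Algebra.FormallyUnramified.lmul_elem, map_one]
  obtain ⟨⟨z, ⟨p, n, rfl⟩⟩, hz⟩ := IsLocalization.surj (Submonoid.powers (q (α f))) εL
  replace hz : εL * lam (q (α f)) ^ n = lam z := (congrArg (εL * ·) (map_pow lam _ n).symm).trans hz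
  obtain ⟨gens, hgens⟩ := Algebra.FiniteType.out (R := B) (A := A)
  have hloc : ∀ a : A, ∃ N, (q (α f)) ^ N * (q (α a) * z) =
      (q (α f)) ^ N * (j (σ (α a)) * z) := fun a => by
    have h : lam (q (α a) * z) = lam (j (σ (α a)) * z) := by
      rw [map_mul, map_mul, ← hz, ← mul_assoc, ← mul_assoc]
      congr 1
      rw [← huA, ← hσA]
      exact (hεL _).symm
    obtain ⟨⟨_, N, rfl⟩, hN⟩ := (IsLocalization.eq_iff_exists (Submonoid.powers (q (α f))) L).1 h
    exact ⟨N, hN⟩
  choose N hN using hloc
  let M := gens.sup N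
  let w := (q (α f)) ^ M * z
  let S : Subring AT :=
    { carrier := {x | q x * w = j (σ x) * w}
      mul_mem' := fun {a b} (ha : _ = _) (hb : _ = _) => by
        show q (a * b) * w = j (σ (a * b)) * w
        rw [map_mul, map_mul, map_mul, mul_assoc, hb, mul_left_comm, ha]; ring
      one_mem' := by simp
      add_mem' := fun {a b} (ha : _ = _) (hb : _ = _) => by
        show q (a + b) * w = j (σ (a + b)) * w
        rw [map_add, map_add, map_add, add_mul, add_mul, ha, hb]
      zero_mem' := by simp
      neg_mem' := fun {a} (ha : _ = _) => by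
        show q (-a) * w = j (σ (-a)) * w
        rw [map_neg, map_neg, map_neg, neg_mul, neg_mul, ha] }
  have hθS : ∀ b, θ b ∈ S := fun b => by
    show q (θ b) * w = j (σ (θ b)) * w
    rw [hσθ]; rfl
  have hαS : ∀ a, α a ∈ S := by
    have hB : ∀ b, algebraMap B A b ∈ S.comap α := fun b => by
      show α (algebraMap B A b) ∈ S
      rw [hαβ]
      exact hθS _
    let S' : Subalgebra B A := { (S.comap α).toSubsemiring with algebraMap_mem' := hB }
    have : Algebra.adjoin B (gens : Set A) ≤ S' := Algebra.adjoin_le fun a ha => by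
      show q (α a) * w = j (σ (α a)) * w
      obtain ⟨d, hd⟩ := Nat.exists_eq_add_of_le (Finset.le_sup (f := N) ha : N a ≤ M)
      have hM : q (α f) ^ M = q (α f) ^ N a * q (α f) ^ d := by rw [← pow_add, ← hd]
      calc q (α a) * w = q (α f) ^ d * (q (α f) ^ N a * (q (α a) * z)) := by
            simp only [w, hM]; ring
        _ = q (α f) ^ d * (q (α f) ^ N a * (j (σ (α a)) * z)) := by rw [hN]
        _ = j (σ (α a)) * w := by simp only [w, hM]; ring
    rw [hgens] at this
    exact fun a => this (x := a) trivial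
  have hS : ∀ x, q x * w = j (σ x) * w := fun x => by
    have : Subring.closure (Set.range θ ∪ Set.range α) ≤ S :=
      Subring.closure_le.2 (Set.union_subset (Set.range_subset_iff.2 hθS) (Set.range_subset_iff.2 hαS))
    rw [hgen] at this
    exact this (x := x) trivial
  obtain ⟨w', hw'⟩ := Ideal.Quotient.mk_surjective w
  have he' : ∀ (x : AT) (b : BT), σ x = Ideal.Quotient.mk _ b →
      x * (w' * θ ε) = θ b * (w' * θ ε) := fun x b hxb => by
    have : q (x * w') = q (θ b * w') := by
      rw [map_mul, map_mul, hw', hS x, hxb]; rfl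
    obtain ⟨c, hc⟩ := Ideal.mem_span_singleton'.1 (Ideal.Quotient.eq.1 this)
    have h0 : (1 - θ ε) * θ ε = 0 := by rw [sub_mul, one_mul, (hε.map θ).eq, sub_self]
    calc x * (w' * θ ε) = θ b * (w' * θ ε) + (x * w' - θ b * w') * θ ε := by ring
      _ = θ b * (w' * θ ε) := by rw [← hc, mul_assoc, h0, mul_zero, add_zero]
  have hu : IsUnit (σ (w' * θ ε)) := by
    have h1 : σ (θ ε) = 1 := by
      rw [hσθ, ← map_one (Ideal.Quotient.mk J), Ideal.Quotient.eq]
      exact Ideal.mem_span_singleton'.2 ⟨-1, by ring⟩
    rw [map_mul, h1, mul_one, show σ w' = σ'' (q w') from rfl, hw']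
    simp only [w, map_mul, map_pow]
    refine (hf.pow M).mul ?_
    rw [← hψ, ← hz, map_mul, map_pow, hψεL, one_mul, hψ]
    exact hf.pow n
  obtain ⟨v, hv⟩ := hu.exists_left_inv
  obtain ⟨c₀, rfl⟩ := Ideal.Quotient.mk_surjective v
  have he : ∀ (x : AT) (b : BT), σ x = Ideal.Quotient.mk _ b →
      x * (θ c₀ * (w' * θ ε)) = θ b * (θ c₀ * (w' * θ ε)) := fun x b h => by
    rw [mul_left_comm, he' x b h, mul_left_comm]
  have h1 : σ (θ c₀ * (w' * θ ε)) = 1 := by rw [map_mul, hσθ]; exact hv
  refine ⟨θ c₀ * (w' * θ ε), ?_, h1, he⟩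
  have := he (θ c₀ * (w' * θ ε)) 1 (h1.trans (map_one _).symm)
  rwa [map_one, one_mul] at this

end Groth.Agent.Lib.InertEt98.Split
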